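import Cfsg.Prelude.Def_Blocks
import Cfsg.Agent.Blocks.CentralizerSum
import Cfsg.Agent.H650.SecOrtho
import Cfsg.Agent.H646.RegInner
set_option linter.all false

/-!
# Weighted sums of block parts (helper650)

`wSum M ω θ = ∑ f, ω f • (f-part of θ)`, the sum over the blocks `f` of `H`, for a weight `ω` on the
blocks and a class function `θ` of the finite group `H`.

* `wSum_eq_finsum`, `blockPart_wSum`, `wSum_wSum`, `wSum_one`;
* `wSum_eq_zero`: vanishes on the `p`-regular elements if `θ` does;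
* `wSum_congr`: only the weights of the blocks with nonvanishing parts matter;
* `sum_wSum_mul_conj`: `∑ s, W_ω θ (s) conj (W_ω' φ (s)) = ∑ s, W_(ω conj ω') θ (s) conj (φ s)`
  over the `p`-regular elements.
-/

set_option autoImplicit false

open Cfsg Cfsg.Agent.Blocks.Basic Cfsg.Agent.Blocks.Local Cfsg.Agent.Blocks
open scoped ComplexConjugate

namespace Cfsg.Agent.H650

variable {H : Type*} [Group H]

/-- The weighted sum of the block parts. -/
noncomputable def wSum [Finite H] (M : Ideal AlgInt) (ω : Set (IrrCharacter H) → ℂ) (θ : H → ℂ) :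
    H → ℂ :=
  haveI := Fintype.ofFinite H
  fun h => ∑ᶠ ξ : IrrCharacter H, ω (blockOf M (ξ : H → ℂ)) *
    (classInner θ (ξ : H → ℂ) * (ξ : H → ℂ) h)

theorem wSum_def [Fintype H] (M : Ideal AlgInt) (ω : Set (IrrCharacter H) → ℂ) (θ : H → ℂ)
    (h : H) : wSum M ω θ h = ∑ᶠ ξ : IrrCharacter H, ω (blockOf M (ξ : H → ℂ)) *
    (classInner θ (ξ : H → ℂ) * (ξ : H → ℂ) h) := by
  have h1 : ‹Fintype H› = Fintype.ofFinite H := Subsingleton.elim _ _
  rw [h1]
  rfl

theorem wSum_eq [Fintype H] [Fintype (IrrCharacter H)] (M : Ideal AlgInt)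
    (ω : Set (IrrCharacter H) → ℂ) (θ : H → ℂ) :
    wSum M ω θ = ∑ ξ : IrrCharacter H, (ω (blockOf M (ξ : H → ℂ)) *
      classInner θ (ξ : H → ℂ)) • (ξ : H → ℂ) := by
  funext h
  rw [wSum_def, finsum_eq_sum_of_fintype, Finset.sum_apply]
  refine Finset.sum_congr rfl fun ξ _ => ?_
  rw [Pi.smul_apply, smul_eq_mul]
  ring

theorem classInner_wSum [Fintype H] (M : Ideal AlgInt) (ω : Set (IrrCharacter H) → ℂ) (θ : H → ℂ)
    (ξ : IrrCharacter H) : classInner (wSum M ω θ) (ξ : H → ℂ) =
      ω (blockOf M (ξ : H → ℂ)) * classInner θ (ξ : H → ℂ) := by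
  have hfin : Finite (IrrCharacter H) := Characters.Core.finite_irr
  have := Fintype.ofFinite (IrrCharacter H)
  rw [wSum_eq, Characters.Core.classInner_sum_smul_irr
    (fun ξ : IrrCharacter H => ω (blockOf M (ξ : H → ℂ)) * classInner θ (ξ : H → ℂ))]

theorem isClassFunction_wSum [Finite H] (M : Ideal AlgInt) (ω : Set (IrrCharacter H) → ℂ)
    (θ : H → ℂ) : IsClassFunction H (wSum M ω θ) := by
  have := Fintype.ofFinite H
  have hfin : Finite (IrrCharacter H) := Characters.Core.finite_irr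
  have := Fintype.ofFinite (IrrCharacter H)
  intro g h
  rw [wSum_eq, Finset.sum_apply, Finset.sum_apply]
  refine Finset.sum_congr rfl fun ξ _ => ?_
  rw [Pi.smul_apply, Pi.smul_apply, irr_conj ξ.2]

theorem eq_of_classInner [Finite H] {θ φ : H → ℂ} (hθ : IsClassFunction H θ)
    (hφ : IsClassFunction H φ)
    (h : ∀ [Fintype H] (ξ : IrrCharacter H), classInner θ (ξ : H → ℂ) = classInner φ (ξ : H → ℂ)) :
    θ = φ := by
  have := Fintype.ofFinite H
  exact Characters.Core.classFunction_ext hθ hφ fun χ hχ => h ⟨χ, hχ⟩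

theorem wSum_wSum [Finite H] (M : Ideal AlgInt) (ω ω' : Set (IrrCharacter H) → ℂ) (θ : H → ℂ) :
    wSum M ω (wSum M ω' θ) = wSum M (fun f => ω f * ω' f) θ := by
  refine eq_of_classInner (isClassFunction_wSum _ _ _) (isClassFunction_wSum _ _ _) ?_
  intro _ ξ
  rw [classInner_wSum, classInner_wSum, classInner_wSum, mul_assoc]

theorem wSum_one [Finite H] (M : Ideal AlgInt) {θ : H → ℂ} (hθ : IsClassFunction H θ) :
    wSum M (fun _ => 1) θ = θ := by
  refine eq_of_classInner (isClassFunction_wSum _ _ _) hθ ?_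
  intro _ ξ
  rw [classInner_wSum, one_mul]

theorem wSum_smul_weight [Finite H] (M : Ideal AlgInt) (c : ℂ) (ω : Set (IrrCharacter H) → ℂ)
    (θ : H → ℂ) : wSum M (fun f => c * ω f) θ = c • wSum M ω θ := by
  refine eq_of_classInner (isClassFunction_wSum _ _ _) ?_ ?_
  · intro g h
    rw [Pi.smul_apply, Pi.smul_apply, isClassFunction_wSum M ω θ]
  · intro _ ξ
    rw [classInner_wSum, Characters.Core.classInner_smul_left, classInner_wSum, mul_assoc]

theorem wSum_sub [Finite H] (M : Ideal AlgInt) (ω : Set (IrrCharacter H) → ℂ) (θ φ : H → ℂ) :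
    wSum M ω (θ - φ) = wSum M ω θ - wSum M ω φ := by
  refine eq_of_classInner (isClassFunction_wSum _ _ _) ?_ ?_
  · intro g h
    rw [Pi.sub_apply, Pi.sub_apply, isClassFunction_wSum M ω θ, isClassFunction_wSum M ω φ]
  · intro _ ξ
    rw [classInner_wSum, Characters.Core.classInner_sub_left, Characters.Core.classInner_sub_left,
      classInner_wSum, classInner_wSum, mul_sub]

theorem blockPart_eq_sum_filter [Fintype H] [Fintype (IrrCharacter H)] (f : Set (IrrCharacter H))
    [DecidablePred (· ∈ f)] (θ : H → ℂ) :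
    blockPart f θ = ∑ ξ : IrrCharacter H with ξ ∈ f,
      classInner θ (ξ : H → ℂ) • (ξ : H → ℂ) := by
  funext h
  rw [CentralizerSum.blockPart_eq, finsum_mem_eq_sum_filter', Finset.sum_apply]
  rfl

theorem isClassFunction_blockPart [Finite H] (f : Set (IrrCharacter H)) (θ : H → ℂ) :
    IsClassFunction H (blockPart f θ) := by
  classical
  have := Fintype.ofFinite H
  have hfin : Finite (IrrCharacter H) := Characters.Core.finite_irr
  have := Fintype.ofFinite (IrrCharacter H)
  intro g h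
  rw [blockPart_eq_sum_filter, Finset.sum_apply, Finset.sum_apply]
  refine Finset.sum_congr rfl fun ξ _ => ?_
  rw [Pi.smul_apply, Pi.smul_apply, irr_conj ξ.2]

open Classical in
theorem classInner_blockPart [Fintype H] (f : Set (IrrCharacter H)) (θ : H → ℂ)
    (ξ : IrrCharacter H) : classInner (blockPart f θ) (ξ : H → ℂ) =
      if ξ ∈ f then classInner θ (ξ : H → ℂ) else 0 := by
  have hfin : Finite (IrrCharacter H) := Characters.Core.finite_irr
  have := Fintype.ofFinite (IrrCharacter H)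
  have h1 : blockPart f θ = ∑ ξ : IrrCharacter H,
      (if ξ ∈ f then classInner θ (ξ : H → ℂ) else 0) • (ξ : H → ℂ) := by
    rw [blockPart_eq_sum_filter, Finset.sum_filter]
    refine Finset.sum_congr rfl fun ξ _ => ?_
    split_ifs <;> simp
  rw [h1, Characters.Core.classInner_sum_smul_irr
    (fun ξ : IrrCharacter H => if ξ ∈ f then classInner θ (ξ : H → ℂ) else 0)]

theorem mem_block_iff {M : Ideal AlgInt} [M.IsPrime] {f : Set (IrrCharacter H)}
    (hf : IsPBlock M f) (ξ : IrrCharacter H) : ξ ∈ f ↔ blockOf M (ξ : H → ℂ) = f := by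
  constructor
  · intro h
    exact (isPBlock_eq_blockOf hf h).symm
  · rintro rfl
    exact mem_blockOf_self ξ

theorem blockPart_wSum [Finite H] {M : Ideal AlgInt} [M.IsPrime] (ω : Set (IrrCharacter H) → ℂ)
    (θ : H → ℂ) {f : Set (IrrCharacter H)} (hf : IsPBlock M f) :
    blockPart f (wSum M ω θ) = ω f • blockPart f θ := by
  classical
  refine eq_of_classInner (isClassFunction_blockPart _ _) ?_ ?_
  · intro g h
    rw [Pi.smul_apply, Pi.smul_apply, isClassFunction_blockPart]
  · intro _ ξ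
    rw [classInner_blockPart, Characters.Core.classInner_smul_left, classInner_blockPart,
      classInner_wSum]
    split_ifs with h
    · rw [(mem_block_iff hf ξ).1 h]
    · rw [mul_zero]

theorem blockPart_sub [Finite H] (f : Set (IrrCharacter H)) (θ φ : H → ℂ) :
    blockPart f (θ - φ) = blockPart f θ - blockPart f φ := by
  classical
  refine eq_of_classInner (isClassFunction_blockPart _ _) ?_ ?_
  · intro g h
    rw [Pi.sub_apply, Pi.sub_apply, isClassFunction_blockPart, isClassFunction_blockPart]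
  · intro _ ξ
    rw [classInner_blockPart, Characters.Core.classInner_sub_left,
      Characters.Core.classInner_sub_left, classInner_blockPart, classInner_blockPart]
    split_ifs <;> simp

/-- The weighted sum as a sum over the blocks. -/
theorem wSum_eq_finsum [Finite H] {M : Ideal AlgInt} [M.IsPrime] (ω : Set (IrrCharacter H) → ℂ)
    (θ : H → ℂ) (h : H) :
    wSum M ω θ h = ∑ᶠ f ∈ {f : Set (IrrCharacter H) | IsPBlock M f}, ω f * blockPart f θ h := by
  classical
  have := Fintype.ofFinite H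
  have hfin : Finite (IrrCharacter H) := Characters.Core.finite_irr
  have := Fintype.ofFinite (IrrCharacter H)
  have h1 : {f : Set (IrrCharacter H) | IsPBlock M f} =
      ((Finset.univ.image fun ξ : IrrCharacter H => blockOf M (ξ : H → ℂ) :
        Finset (Set (IrrCharacter H))) : Set (Set (IrrCharacter H))) := by
    ext f
    simp only [Set.mem_ofPred_eq, Finset.coe_image, Finset.coe_univ, Set.image_univ, Set.mem_range]
    constructor
    · rintro ⟨χ, rfl⟩
      exact ⟨χ, rfl⟩
    · rintro ⟨χ, rfl⟩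
      exact ⟨χ, rfl⟩
  rw [h1, finsum_mem_coe_finset, wSum_def, finsum_eq_sum_of_fintype,
    ← Finset.sum_fiberwise_of_maps_to (s := Finset.univ)
      (t := Finset.univ.image fun ξ : IrrCharacter H => blockOf M (ξ : H → ℂ))
      (g := fun ξ : IrrCharacter H => blockOf M (ξ : H → ℂ))
      (fun ξ _ => Finset.mem_image_of_mem _ (Finset.mem_univ ξ))]
  refine Finset.sum_congr rfl fun f hf => ?_
  obtain ⟨χ, -, rfl⟩ := Finset.mem_image.1 hf
  rw [blockPart_eq_sum_filter, Finset.sum_apply, Finset.mul_sum]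
  refine Finset.sum_congr ?_ fun ξ hξ => ?_
  · ext ξ
    simp only [Finset.mem_filter, Finset.mem_univ, true_and]
    exact (mem_block_iff (isPBlock_blockOf χ) ξ).symm
  · rw [(mem_block_iff (isPBlock_blockOf χ) ξ).1 (Finset.mem_filter.1 hξ).2, Pi.smul_apply,
      smul_eq_mul]

section Reg

variable [Finite H] {p : ℕ} [Fact p.Prime] {M : Ideal AlgInt}

omit [Finite H] [Fact p.Prime] in
theorem isPPart_one_of_reg {s : H} (hs : ¬ p ∣ orderOf s) : IsPPart p s 1 :=
  ⟨s, one_mul s, Commute.one_left s, ⟨0, by simp⟩, hs⟩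

/-- Block parts of class functions vanishing on the `p`-regular elements. -/
theorem blockPart_eq_zero_of_reg (hM : IsPModular p M) {θ : H → ℂ} (hθ : IsClassFunction H θ)
    (h0 : ∀ s : H, ¬ p ∣ orderOf s → θ s = 0) {f : Set (IrrCharacter H)} (hf : IsPBlock M f)
    {s : H} (hs : ¬ p ∣ orderOf s) : blockPart f θ s = 0 := by
  refine (S0925.result p M hM (G := H)).1 θ hθ 1 ⟨0, by simp⟩ ?_ f hf s 1
    (isPPart_one_of_reg hs) (IsConj.refl 1)
  intro u z hu hz
  have hz1 : z = 1 := (isConj_one_right.1 hz)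
  subst hz1
  apply h0
  obtain ⟨y, hy1, -, -, hy2⟩ := hu
  rw [one_mul] at hy1
  rwa [← hy1]

theorem wSum_eq_zero (hM : IsPModular p M) {θ : H → ℂ} (hθ : IsClassFunction H θ)
    (h0 : ∀ s : H, ¬ p ∣ orderOf s → θ s = 0) (ω : Set (IrrCharacter H) → ℂ)
    {s : H} (hs : ¬ p ∣ orderOf s) : wSum M ω θ s = 0 := by
  have := isPrime_of_isPModular hM
  rw [wSum_eq_finsum, finsum_mem_eq_zero_of_forall_eq_zero]
  intro f hf
  rw [blockPart_eq_zero_of_reg hM hθ h0 hf hs, mul_zero]

/-- Weighted sums of class functions which agree on the `p`-regular elements. -/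
theorem wSum_congr_reg (hM : IsPModular p M) {θ φ : H → ℂ} (hθ : IsClassFunction H θ)
    (hφ : IsClassFunction H φ) (h0 : ∀ s : H, ¬ p ∣ orderOf s → θ s = φ s)
    (ω : Set (IrrCharacter H) → ℂ) {s : H} (hs : ¬ p ∣ orderOf s) :
    wSum M ω θ s = wSum M ω φ s := by
  have h1 := wSum_eq_zero hM (θ := θ - φ) ?_ ?_ ω hs
  · rw [wSum_sub, Pi.sub_apply, sub_eq_zero] at h1
    exact h1
  · intro g h
    rw [Pi.sub_apply, Pi.sub_apply, hθ, hφ]
  · intro t ht
    rw [Pi.sub_apply, h0 t ht, sub_self]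

theorem blockPart_congr_reg (hM : IsPModular p M) {θ φ : H → ℂ} (hθ : IsClassFunction H θ)
    (hφ : IsClassFunction H φ) (h0 : ∀ s : H, ¬ p ∣ orderOf s → θ s = φ s)
    {f : Set (IrrCharacter H)} (hf : IsPBlock M f) {s : H} (hs : ¬ p ∣ orderOf s) :
    blockPart f θ s = blockPart f φ s := by
  have h1 := blockPart_eq_zero_of_reg hM (θ := θ - φ) ?_ ?_ hf hs
  · rw [blockPart_sub, Pi.sub_apply, sub_eq_zero] at h1
    exact h1
  · intro g h
    rw [Pi.sub_apply, Pi.sub_apply, hθ, hφ]
  · intro t ht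
    rw [Pi.sub_apply, h0 t ht, sub_self]

omit [Fact p.Prime] in
/-- Only the weights of the blocks with nonvanishing parts matter. -/
theorem wSum_congr (hM : IsPModular p M) {θ : H → ℂ} {ω ω' : Set (IrrCharacter H) → ℂ} {s : H}
    (h : ∀ f : Set (IrrCharacter H), IsPBlock M f → ω f = ω' f ∨ blockPart f θ s = 0) :
    wSum M ω θ s = wSum M ω' θ s := by
  have := isPrime_of_isPModular hM
  rw [wSum_eq_finsum, wSum_eq_finsum]
  refine finsum_mem_congr rfl fun f hf => ?_
  rcases h f hf with h1 | h1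
  · rw [h1]
  · rw [h1, mul_zero, mul_zero]

/-- The form `∑ s, θ s * conj (φ s)` over the `p`-regular elements. -/
noncomputable def regForm (p : ℕ) [Fintype H] (θ φ : H → ℂ) : ℂ := by
  classical exact ∑ s : H with ¬ p ∣ orderOf s, θ s * conj (φ s)

omit [Finite H] [Fact p.Prime] in
theorem regForm_def [Fintype H] [DecidablePred fun s : H => ¬ p ∣ orderOf s] (θ φ : H → ℂ) :
    regForm p θ φ = ∑ s : H with ¬ p ∣ orderOf s, θ s * conj (φ s) := by
  unfold regForm
  congr!

omit [Finite H] in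
theorem regForm_irr_eq_zero [Fintype H] (hM : IsPModular p M) {ξ ξ' : IrrCharacter H}
    (h : blockOf M (ξ : H → ℂ) ≠ blockOf M (ξ' : H → ℂ)) :
    regForm p (ξ : H → ℂ) (ξ' : H → ℂ) = 0 := by
  classical
  have := isPrime_of_isPModular hM
  have h1 := H646.RegInner.classInner_pRegularPart_eq_zero hM (isPBlock_blockOf ξ)
    (mem_blockOf_self ξ) (ψ := ξ') (fun h2 => h ((mem_block_iff (isPBlock_blockOf ξ) ξ').1 h2).symm)
  have hne : (Nat.card H : ℂ) ≠ 0 := by exact_mod_cast Nat.card_pos.ne'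
  rw [classInner_def, mul_eq_zero, or_iff_right (inv_ne_zero hne)] at h1
  rw [regForm_def, ← h1, Finset.sum_filter]
  refine Finset.sum_congr rfl fun s _ => ?_
  split_ifs with hs
  · rw [H646.RegInner.pRegularPart_of_dvd hs, zero_mul]
  · rw [H646.RegInner.pRegularPart_of_not_dvd hs]

omit [Finite H] [Fact p.Prime] in
theorem regForm_sum_smul [Fintype H] [Fintype (IrrCharacter H)] (a b : IrrCharacter H → ℂ) :
    regForm p (∑ ξ : IrrCharacter H, a ξ • (ξ : H → ℂ)) (∑ ξ : IrrCharacter H, b ξ • (ξ : H → ℂ)) =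
      ∑ ξ : IrrCharacter H, ∑ ξ' : IrrCharacter H,
        a ξ * conj (b ξ') * regForm p (ξ : H → ℂ) (ξ' : H → ℂ) := by
  classical
  rw [regForm_def]
  simp only [Finset.sum_apply, Pi.smul_apply, smul_eq_mul, map_sum, map_mul, regForm_def,
    Finset.mul_sum, Finset.sum_mul]
  rw [Finset.sum_comm]
  have h2 : ∀ ξ : IrrCharacter H, (∑ s : H with ¬ p ∣ orderOf s, ∑ ξ' : IrrCharacter H,
      a ξ' * (ξ' : H → ℂ) s * (conj (b ξ) * conj ((ξ : H → ℂ) s))) =
      ∑ ξ' : IrrCharacter H, ∑ s : H with ¬ p ∣ orderOf s,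
      a ξ' * (ξ' : H → ℂ) s * (conj (b ξ) * conj ((ξ : H → ℂ) s)) := fun ξ => Finset.sum_comm
  rw [Finset.sum_congr rfl fun ξ _ => h2 ξ, Finset.sum_comm]
  refine Finset.sum_congr rfl fun ξ _ => Finset.sum_congr rfl fun ξ' _ =>
    Finset.sum_congr rfl fun s _ => ?_
  ring

/-- Moving the weights to one side. -/
theorem regForm_wSum [Fintype H] (hM : IsPModular p M) {θ φ : H → ℂ} (hφ : IsClassFunction H φ)
    (ω ω' : Set (IrrCharacter H) → ℂ) :
    regForm p (wSum M ω θ) (wSum M ω' φ) =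
      regForm p (wSum M (fun f => ω f * conj (ω' f)) θ) φ := by
  classical
  have hfin : Finite (IrrCharacter H) := Characters.Core.finite_irr
  have := Fintype.ofFinite (IrrCharacter H)
  rw [wSum_eq, wSum_eq, wSum_eq]
  conv_rhs => rw [Characters.Core.classFunction_eq_sum hφ]
  rw [regForm_sum_smul, regForm_sum_smul]
  refine Finset.sum_congr rfl fun ξ _ => Finset.sum_congr rfl fun ξ' _ => ?_
  by_cases h : blockOf M (ξ : H → ℂ) = blockOf M (ξ' : H → ℂ)
  · rw [h, map_mul]
    ring
  · rw [regForm_irr_eq_zero hM h, mul_zero, mul_zero]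

end Reg

end Cfsg.Agent.H650
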