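import Cfsg.Agent.H650.LinAct
import Cfsg.Agent.H651.StarMain
set_option linter.all false

/-!
# The hypotheses `Dat` hold for every block (helper650)

`dat_of`: the star construction with the linear characters of `P / foc(F)` acts on the characters of
the block.
-/

set_option autoImplicit false

open Cfsg Cfsg.Agent.H649 Cfsg.Agent.H651

namespace Cfsg.Agent.H650

universe u

theorem dat_of {G : Type u} [Group G] [Fintype G] {p : ℕ} [Fact p.Prime] {M : Ideal AlgInt}
    {B : Set (IrrCharacter G)} {P : Subgroup G}
    {e : Set (IrrCharacter (Subgroup.centralizer (P : Set G)))} {F : FusionSystem P}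
    (hM : IsPModular p M) (hmax : IsMaximalBrauerPair p M B P e)
    (hF : IsBlockFusionSystemOn p M B P e F) : Dat p M B P e F where
  hM := hM
  hmax := hmax
  hF := hF
  gen l hl χ _ := star_isGeneralizedCharacter hM (a := ⟨P, e⟩) hmax (isGeneralizedCharacter_ext0 l)
    (isStable_ext0 hF hl) (Characters.Core.isIrr_isCharacter χ.2)

end Cfsg.Agent.H650
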