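import Mathlib
import Cfsg.Agent.Transfer.FrobeniusFusion
import Cfsg.Agent.Lib.Cores
import Cfsg.Agent.H590.RankOne
import Cfsg.Agent.H644.CentralQuot
import Cfsg.Agent.H590.StLink
import Cfsg.Agent.H608.SecProj
import Cfsg.Agent.H634.Cols
import Cfsg.Agent.H658.RegPow
import Cfsg.Agent.S0189
import Cfsg.Agent.FastGrp
import Cfsg.Agent.Prune
set_option linter.all false
prune_inst 0x7f00000000000000000000000000000000000000000000000000000000000000000000000000000000000000000000000000000000000000000000000000000000000000000000000000000000000000003fffffffffffffffffffffffffffbeffbdffffffff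
open scoped Cfsg.Agent.FastGrp

-- part: H650/E27Group
section
/-!
# Groups with a central element `z` of order 3 and Sylow 3-subgroups of order 27

`E27Dat P z`: `z` is central of order 3, `P` has order 27 and every `u ∈ P` outside `⟨z⟩` is
conjugate in `G` to `u z` and is not central in `P`.

* `mem_sup_of_commute`: 3-elements commuting with a 3-element `u ∉ ⟨z⟩` are in `⟨z⟩ ⟨u⟩`;
* `exists_index_centralizer`: the centralizer of `u` has a normal 3-complement;
* `exists_index_centralizer_quot`: so has the centralizer of `u ⟨z⟩` in `G / ⟨z⟩`;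
* `isConj_mul_zpow`: `u` and `u z ^ i` are conjugate.
-/

set_option autoImplicit false

namespace Cfsg.Agent.H650.E27

open Cfsg Subgroup

/-- `z` is central of order 3, `P` is a Sylow 3-subgroup of order 27, and every `u ∈ P` outside
`⟨z⟩` is conjugate in `G` to `u z` and is not central in `P`. -/
structure E27Dat {G : Type*} [Group G] (P : Sylow 3 G) (z : G) : Prop where
  hzc : z ∈ center G
  hz3 : orderOf z = 3
  hcard : Nat.card P = 27
  hnc : ∀ u ∈ P, u ∉ zpowers z → ∃ g ∈ P, g * u ≠ u * g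
  hconj : ∀ u ∈ P, u ∉ zpowers z → ∃ g : G, g * u * g⁻¹ = u * z

variable {G : Type*} [Group G] {P : Sylow 3 G} {z : G}

theorem zcomm (h : E27Dat P z) (g : G) : g * z = z * g := mem_center_iff.1 h.hzc g

theorem z_ne_one (h : E27Dat P z) : z ≠ 1 := by
  rintro rfl
  have := h.hz3
  rw [orderOf_one] at this
  omega

theorem zpowers_le_center (h : E27Dat P z) : zpowers z ≤ center G := by
  rw [zpowers_le]; exact h.hzc

theorem zpowers_normal (h : E27Dat P z) : (zpowers z).Normal :=
  ⟨fun n hn g => by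
    have h1 := mem_center_iff.1 (zpowers_le_center h hn) g
    rw [h1, mul_inv_cancel_right]; exact hn⟩

theorem card_zpowers_z (h : E27Dat P z) : Nat.card (zpowers z) = 3 := by
  rw [Nat.card_zpowers, h.hz3]

theorem isPGroup_zpowers_z (h : E27Dat P z) : IsPGroup 3 (zpowers z) :=
  IsPGroup.of_card (n := 1) (by rw [card_zpowers_z h, pow_one])

theorem zpowers_le_sylow [Finite G] (h : E27Dat P z) (Q : Sylow 3 G) :
    zpowers z ≤ (Q : Subgroup G) := by
  have h1 := zpowers_normal h
  exact IsPGroup.le_sylow_of_normal (isPGroup_zpowers_z h) Q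

theorem mem_sup_of_mem [Finite G] (h : E27Dat P z) {u x : G} (huP : u ∈ (P : Subgroup G))
    (hu : u ∉ zpowers z) (hxP : x ∈ (P : Subgroup G)) (hxu : x * u = u * x) :
    x ∈ zpowers z ⊔ zpowers u := by
  set A : Subgroup G := (P : Subgroup G) ⊓ centralizer {u} with hA
  set B : Subgroup G := zpowers z ⊔ zpowers u with hB
  have hBA : B ≤ A := by
    rw [hB, sup_le_iff, zpowers_le, zpowers_le]
    exact ⟨⟨zpowers_le_sylow h P (mem_zpowers z),
      mem_centralizer_singleton_iff.2 (zcomm h u).symm⟩, huP,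
      mem_centralizer_singleton_iff.2 rfl⟩
  have hA27 : Nat.card A ∣ 27 := by
    rw [← h.hcard]; exact card_dvd_of_le inf_le_left
  have hAne : Nat.card A ≠ 27 := by
    intro hc
    have h1 : A = (P : Subgroup G) := by
      apply Subgroup.eq_of_le_of_card_ge inf_le_left
      rw [hc]; exact h.hcard.le
    obtain ⟨g, hg, hgu⟩ := h.hnc u huP hu
    have h2 : g ∈ A := by rw [h1]; exact hg
    exact hgu (mem_centralizer_singleton_iff.1 h2.2)
  have hBA' : Nat.card B ∣ Nat.card A := card_dvd_of_le hBA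
  have h3B : 3 ∣ Nat.card B := by
    rw [← card_zpowers_z h]; exact card_dvd_of_le le_sup_left
  have hB3 : Nat.card B ≠ 3 := by
    intro hc
    have h1 : zpowers z = B := by
      apply Subgroup.eq_of_le_of_card_ge le_sup_left
      rw [hc, card_zpowers_z h]
    exact hu (by rw [h1]; exact (le_sup_right : zpowers u ≤ B) (mem_zpowers u))
  have hA' : Nat.card A ∈ ({1, 3, 9, 27} : Finset ℕ) := by
    have : Nat.card A ∈ Nat.divisors 27 := Nat.mem_divisors.2 ⟨hA27, by norm_num⟩
    have h27 : Nat.divisors 27 = {1, 3, 9, 27} := by decide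
    rwa [h27] at this
  have hB' : Nat.card B ∈ ({1, 3, 9, 27} : Finset ℕ) := by
    have : Nat.card B ∈ Nat.divisors 27 := Nat.mem_divisors.2 ⟨hBA'.trans hA27, by norm_num⟩
    have h27 : Nat.divisors 27 = {1, 3, 9, 27} := by decide
    rwa [h27] at this
  simp only [Finset.mem_insert, Finset.mem_singleton] at hA' hB'
  have hle : Nat.card B ≤ Nat.card A := Nat.le_of_dvd Nat.card_pos hBA'
  have hAB : B = A := by
    apply Subgroup.eq_of_le_of_card_ge hBA
    omega
  rw [hAB]
  exact ⟨hxP, mem_centralizer_singleton_iff.2 hxu⟩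

theorem isPGroup_zpowers {u : G} (hu : ∃ k : ℕ, orderOf u = 3 ^ k) : IsPGroup 3 (zpowers u) := by
  obtain ⟨k, hk⟩ := hu
  exact IsPGroup.of_card (n := k) (by rw [Nat.card_zpowers, hk])

/-- Two commuting 3-elements are simultaneously conjugate into `P`. -/
theorem exists_conj_mem [Finite G] (P : Sylow 3 G) {u x : G} (hu : ∃ k : ℕ, orderOf u = 3 ^ k)
    (hx : ∃ k : ℕ, orderOf x = 3 ^ k) (hxu : x * u = u * x) :
    ∃ c : G, c * u * c⁻¹ ∈ (P : Subgroup G) ∧ c * x * c⁻¹ ∈ (P : Subgroup G) := by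
  have h1 : IsPGroup 3 (zpowers u ⊔ zpowers x : Subgroup G) := by
    apply IsPGroup.to_sup_of_normal_right' (isPGroup_zpowers hu) (isPGroup_zpowers hx)
    rw [zpowers_le]
    apply centralizer_le_normalizer
    rw [mem_centralizer_iff]
    intro y hy
    obtain ⟨k, rfl⟩ := mem_zpowers_iff.1 hy
    exact (Commute.zpow_left (show Commute x u from hxu) k)
  obtain ⟨Q, hQ⟩ := h1.exists_le_sylow
  obtain ⟨c, hc⟩ := MulAction.exists_smul_eq G Q P
  refine ⟨c, ?_, ?_⟩
  · rw [← hc]
    exact Subgroup.smul_mem_pointwise_smul u (MulAut.conj c) _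
      (hQ ((le_sup_left : zpowers u ≤ _) (mem_zpowers u)))
  · rw [← hc]
    exact Subgroup.smul_mem_pointwise_smul x (MulAut.conj c) _
      (hQ ((le_sup_right : zpowers x ≤ _) (mem_zpowers x)))

theorem conj_mem_zpowers_iff (h : E27Dat P z) {u c : G} :
    c * u * c⁻¹ ∈ zpowers z ↔ u ∈ zpowers z := by
  have hn := zpowers_normal h
  constructor
  · intro h1
    have h2 := hn.conj_mem _ h1 c⁻¹
    simpa [mul_assoc] using h2
  · intro h1; exact hn.conj_mem _ h1 c

theorem mem_sup_of_commute [Finite G] (h : E27Dat P z) {u x : G}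
    (hu3 : ∃ k : ℕ, orderOf u = 3 ^ k) (hu : u ∉ zpowers z)
    (hx : ∃ k : ℕ, orderOf x = 3 ^ k) (hxu : x * u = u * x) : x ∈ zpowers z ⊔ zpowers u := by
  obtain ⟨c, hcu, hcx⟩ := exists_conj_mem P hu3 hx hxu
  have h1 := mem_sup_of_mem h hcu (fun h' => hu ((conj_mem_zpowers_iff h).1 h')) hcx (by
    have := congrArg (fun y => c * y * c⁻¹) hxu
    simpa [mul_assoc] using this)
  have h2 : (zpowers z ⊔ zpowers (c * u * c⁻¹)) =
      (zpowers z ⊔ zpowers u).map (MulAut.conj c).toMonoidHom := by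
    rw [Subgroup.map_sup, MonoidHom.map_zpowers, MonoidHom.map_zpowers]
    congr 2
    show z = c * z * c⁻¹
    rw [zcomm h c, mul_inv_cancel_right]
  rw [h2] at h1
  obtain ⟨y, hy, hyx⟩ := h1
  have h3 : y = x := by
    have : c * y * c⁻¹ = c * x * c⁻¹ := hyx
    exact mul_left_cancel (mul_right_cancel this)
  rwa [h3] at hy

/-- 3-elements of the centralizer of `u` are central there. -/
theorem central_of_centralizer [Finite G] (h : E27Dat P z) {u : G}
    (hu3 : ∃ k : ℕ, orderOf u = 3 ^ k) (hu : u ∉ zpowers z) {x g : G}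
    (hx : ∃ k : ℕ, orderOf x = 3 ^ k) (hxu : x * u = u * x) (hg : g * u = u * g) :
    g * x = x * g := by
  have h1 := mem_sup_of_commute h hu3 hu hx hxu
  have h2 : zpowers z ⊔ zpowers u ≤ centralizer {g} := by
    rw [sup_le_iff, zpowers_le, zpowers_le, mem_centralizer_singleton_iff,
      mem_centralizer_singleton_iff]
    exact ⟨(zcomm h g).symm, hg.symm⟩
  exact (mem_centralizer_singleton_iff.1 (h2 h1)).symm

/-- From a normal `p`-complement to the index of the `p'`-core. -/
theorem exists_index_of_hasNormalPComplement {p : ℕ} [hp : Fact p.Prime] {K : Type*} [Group K]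
    [Finite K] (h : HasNormalPComplement p K) : ∃ k : ℕ, (pPrimeCore p K).index = p ^ k := by
  obtain ⟨N, hN, hc, hq⟩ := Transfer.NormalPComplement.hasNormalPComplement_iff.1 h
  apply H590.RankOne.exists_index_of_regular
  intro g hg
  have h1 : g ∈ N := by
    rw [← QuotientGroup.eq_one_iff]
    have := Transfer.NormalPComplement.map_eq_one_of_coprime hq (QuotientGroup.mk' N) (g := g)
      (((Nat.Prime.coprime_iff_not_dvd hp.out).2 hg).symm)
    exact this
  have h2 : N ≤ pPrimeCore p K := le_sSup ⟨hN, hc⟩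
  exact h2 h1

/-- The centralizer of a 3-element outside `⟨z⟩` has a normal 3-complement. -/
theorem exists_index_centralizer [Finite G] (h : E27Dat P z) {u : G}
    (hu3 : ∃ k : ℕ, orderOf u = 3 ^ k) (hu : u ∉ zpowers z) :
    ∃ k : ℕ, (pPrimeCore 3 (centralizer ({u} : Set G))).index = 3 ^ k := by
  apply exists_index_of_hasNormalPComplement
  obtain ⟨R⟩ : Nonempty (Sylow 3 (centralizer ({u} : Set G))) := inferInstance
  refine Transfer.FrobeniusFusion.hasNormalPComplement_of_controls_fusion R ?_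
  rintro x hx y _ ⟨g, rfl⟩
  refine ⟨1, one_mem _, ?_⟩
  obtain ⟨k, hk⟩ := (IsPGroup.iff_orderOf.1 R.2) ⟨x, hx⟩
  have hx3 : ∃ k : ℕ, orderOf (x : G) = 3 ^ k := ⟨k, by
    rw [Subgroup.orderOf_coe, ← hk, ← Subgroup.orderOf_coe ⟨x, hx⟩]⟩
  have h1 := central_of_centralizer h hu3 hu hx3 (mem_centralizer_singleton_iff.1 x.2)
    (mem_centralizer_singleton_iff.1 g.2)
  apply Subtype.ext
  show (1 : G) * (x : G) * (1 : G)⁻¹ = (g : G) * x * (g : G)⁻¹
  rw [h1, mul_inv_cancel_right, one_mul, inv_one, mul_one]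

theorem isConj_mul_zpow [Finite G] (h : E27Dat P z) {u : G}
    (hu3 : ∃ k : ℕ, orderOf u = 3 ^ k) (hu : u ∉ zpowers z) {w : G} (hw : w ∈ zpowers z) :
    IsConj u (u * w) := by
  obtain ⟨c, hcu, -⟩ := exists_conj_mem P hu3 hu3 rfl
  obtain ⟨g, hg⟩ := h.hconj _ hcu (fun h' => hu ((conj_mem_zpowers_iff h).1 h'))
  have h1 : (c⁻¹ * g * c) * u * (c⁻¹ * g * c)⁻¹ = u * z := by
    calc (c⁻¹ * g * c) * u * (c⁻¹ * g * c)⁻¹ = c⁻¹ * (g * (c * u * c⁻¹) * g⁻¹) * c := by group
      _ = c⁻¹ * (c * u * c⁻¹ * z) * c := by rw [hg]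
      _ = u * (c⁻¹ * z * c) := by group
      _ = u * z := by rw [zcomm h c⁻¹, inv_mul_cancel_right]
  set g' := c⁻¹ * g * c with hg'
  obtain ⟨i, rfl⟩ := mem_zpowers_iff.1 hw
  have hz : ∀ j : ℤ, ∀ g : G, g * z ^ j = z ^ j * g := fun j g =>
    (Commute.zpow_right (show Commute g z from zcomm h g) j)
  have hn : ∀ n : ℕ, IsConj u (u * z ^ n) := by
    intro n
    induction n with
    | zero => rw [pow_zero, mul_one]
    | succ n ih =>
      refine ih.trans (isConj_iff.2 ⟨g', ?_⟩)
      calc g' * (u * z ^ n) * g'⁻¹ = g' * u * (z ^ n * g'⁻¹) := by group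
        _ = g' * u * (g'⁻¹ * z ^ n) := by
          rw [← zpow_natCast, ← hz n g'⁻¹]
        _ = (g' * u * g'⁻¹) * z ^ n := by group
        _ = u * z * z ^ n := by rw [h1]
        _ = u * z ^ (n + 1) := by rw [pow_succ', mul_assoc]
  have hi : z ^ i = z ^ (i % 3).toNat := by
    have h3 : (0 : ℤ) ≤ i % 3 := Int.emod_nonneg _ (by norm_num)
    rw [← zpow_natCast, Int.toNat_of_nonneg h3]
    have : (i % 3 : ℤ) = i % (orderOf z : ℤ) := by rw [h.hz3]; rfl
    rw [this, zpow_mod_orderOf]
  rw [hi]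
  exact hn _

set_option linter.unusedSectionVars false

variable [Finite G]

/-- Lifting conjugacy of 3-elements from `G / ⟨z⟩`. -/
theorem isConj_of_mk [(zpowers z).Normal] (h : E27Dat P z) {u v : G}
    (hv3 : ∃ k : ℕ, orderOf v = 3 ^ k) (hv : v ∉ zpowers z)
    (hc : IsConj (QuotientGroup.mk u : G ⧸ zpowers z) (QuotientGroup.mk v)) : IsConj u v := by
  obtain ⟨c, hc⟩ := isConj_iff.1 hc
  obtain ⟨c, rfl⟩ := QuotientGroup.mk_surjective c
  rw [← QuotientGroup.mk_inv, ← QuotientGroup.mk_mul, ← QuotientGroup.mk_mul, eq_comm,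
    QuotientGroup.eq] at hc
  have h1 : c * u * c⁻¹ = v * (v⁻¹ * (c * u * c⁻¹)) := by group
  have h2 : IsConj u (c * u * c⁻¹) := isConj_iff.2 ⟨c, rfl⟩
  rw [h1] at h2
  exact h2.trans (isConj_mul_zpow h hv3 hv hc).symm

theorem mk_mem_iff_three [(zpowers z).Normal] (h : E27Dat P z) (g : G) :
    (∃ k : ℕ, orderOf (QuotientGroup.mk g : G ⧸ zpowers z) = 3 ^ k) ↔
      ∃ k : ℕ, orderOf g = 3 ^ k := by
  constructor
  · rintro ⟨k, hk⟩
    have h1 : (QuotientGroup.mk g : G ⧸ zpowers z) ^ 3 ^ k = 1 := by rw [← hk, pow_orderOf_eq_one]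
    rw [← QuotientGroup.mk_pow, QuotientGroup.eq_one_iff] at h1
    have h2 : (g ^ 3 ^ k) ^ 3 = 1 := by
      obtain ⟨i, hi⟩ := mem_zpowers_iff.1 h1
      rw [← hi, ← zpow_natCast, ← zpow_mul, mul_comm, zpow_mul, zpow_natCast, ← h.hz3,
        pow_orderOf_eq_one, one_zpow]
    rw [← pow_mul, ← pow_succ] at h2
    obtain ⟨m, -, hm⟩ := (Nat.dvd_prime_pow Nat.prime_three).1 (orderOf_dvd_of_pow_eq_one h2)
    exact ⟨m, hm⟩
  · rintro ⟨k, hk⟩
    have h1 : (QuotientGroup.mk g : G ⧸ zpowers z) ^ 3 ^ k = 1 := by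
      rw [← QuotientGroup.mk_pow, ← hk, pow_orderOf_eq_one, QuotientGroup.mk_one]
    obtain ⟨m, -, hm⟩ := (Nat.dvd_prime_pow Nat.prime_three).1 (orderOf_dvd_of_pow_eq_one h1)
    exact ⟨m, hm⟩

/-- 3-regular elements centralizing `u` modulo `⟨z⟩` centralize `u`. -/
theorem commute_of_mk [(zpowers z).Normal] (h : E27Dat P z) {u g : G}
    (hg : ¬ 3 ∣ orderOf g)
    (hc : (QuotientGroup.mk g : G ⧸ zpowers z) * QuotientGroup.mk u =
      QuotientGroup.mk u * QuotientGroup.mk g) : g * u = u * g := by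
  rw [← QuotientGroup.mk_mul, ← QuotientGroup.mk_mul, eq_comm, QuotientGroup.eq] at hc
  set w := (u * g)⁻¹ * (g * u) with hw
  have hwc : ∀ x, x * w = w * x := fun x => mem_center_iff.1 (zpowers_le_center h hc) x
  have h1 : u⁻¹ * g * u = g * (g⁻¹ * u⁻¹ * g * u) := by group
  have h1' : u⁻¹ * g * u = g * w := by rw [h1, hw]; group
  have hw3 : w ^ 3 = 1 := by
    obtain ⟨i, hi⟩ := mem_zpowers_iff.1 hc
    rw [← hi, ← zpow_natCast, ← zpow_mul, mul_comm, zpow_mul, zpow_natCast, ← h.hz3,
      pow_orderOf_eq_one, one_zpow]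
  have hord : orderOf (g * w) = orderOf g := by
    rw [← h1']
    have := (MulAut.conj u⁻¹).orderOf_eq g
    simpa using this
  have h2 : (g * w) ^ orderOf g = 1 := by rw [← hord, pow_orderOf_eq_one]
  rw [(show Commute g w from hwc g).mul_pow, pow_orderOf_eq_one, one_mul] at h2
  have h3 : orderOf w ∣ Nat.gcd (orderOf g) 3 :=
    Nat.dvd_gcd (orderOf_dvd_of_pow_eq_one h2) (orderOf_dvd_of_pow_eq_one hw3)
  have h4 : Nat.gcd (orderOf g) 3 = 1 :=
    ((Nat.Prime.coprime_iff_not_dvd Nat.prime_three).2 hg).symm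
  rw [h4, Nat.dvd_one, orderOf_eq_one_iff] at h3
  rw [h3] at hw
  have := congrArg (fun x => u * g * x) hw
  simp only [mul_one, mul_inv_cancel_left] at this
  exact this.symm

/-- The centralizer of the image of `u` in `G / ⟨z⟩` has a normal 3-complement. -/
theorem exists_index_centralizer_quot [(zpowers z).Normal] (h : E27Dat P z) {u : G}
    (hu3 : ∃ k : ℕ, orderOf u = 3 ^ k) (hu : u ∉ zpowers z) :
    ∃ k : ℕ, (pPrimeCore 3 (centralizer ({(QuotientGroup.mk u : G ⧸ zpowers z)} :
      Set (G ⧸ zpowers z)))).index = 3 ^ k := by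
  have hnc := exists_index_centralizer h hu3 hu
  set C := centralizer ({u} : Set G) with hC
  set D := centralizer ({(QuotientGroup.mk u : G ⧸ zpowers z)} : Set (G ⧸ zpowers z)) with hD
  have hCD : ∀ c : C, (QuotientGroup.mk (c : G) : G ⧸ zpowers z) ∈ D := fun c => by
    rw [hD, mem_centralizer_singleton_iff, ← QuotientGroup.mk_mul, ← QuotientGroup.mk_mul,
      mem_centralizer_singleton_iff.1 c.2]
  let f : C →* D :=
    { toFun := fun c => ⟨QuotientGroup.mk (c : G), hCD c⟩
      map_one' := Subtype.ext (by simp)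
      map_mul' := fun a b => Subtype.ext (by simp) }
  have hlift : ∀ d : D, ¬ 3 ∣ orderOf d → ∃ c : C, ¬ 3 ∣ orderOf c ∧ f c = d := by
    intro d hd
    obtain ⟨g, hg, hgd⟩ := Blocks.PRegular.exists_isPRegular_lift G 3 (zpowers z)
      (x := (d : G ⧸ zpowers z)) (by rwa [IsPRegular, Subgroup.orderOf_coe])
    have hg1 : (QuotientGroup.mk g : G ⧸ zpowers z) = d := hgd
    have hg2 : g * u = u * g := commute_of_mk h hg (by
      rw [hg1]; exact mem_centralizer_singleton_iff.1 d.2)
    exact ⟨⟨g, mem_centralizer_singleton_iff.2 hg2⟩, by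
      rw [← Subgroup.orderOf_coe]; exact hg, Subtype.ext hg1⟩
  have hreg : ∀ c : C, ¬ 3 ∣ orderOf c ↔ c ∈ pPrimeCore 3 C := by
    intro c
    constructor
    · exact fun hc => Blocks.PrincipalSection.mem_pPrimeCore_of_regular hnc hc
    · intro hc h3
      have h1 : orderOf c ∣ Nat.card (pPrimeCore 3 C) := by
        have := orderOf_dvd_natCard (⟨c, hc⟩ : pPrimeCore 3 C)
        rwa [← Subgroup.orderOf_coe] at this
      have h2 := (Nat.Prime.coprime_iff_not_dvd Nat.prime_three).1
        (Lib.Cores.pPrimeCore_coprime (G := C) 3).symm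
      exact h2 (h3.trans h1)
  have hmap : ∀ c : C, ¬ 3 ∣ orderOf c → ¬ 3 ∣ orderOf (f c) := fun c hc h3 =>
    hc (h3.trans (orderOf_map_dvd f c))
  let K : Subgroup D := (pPrimeCore 3 C).map f
  have hK : ∀ d : D, d ∈ K ↔ ¬ 3 ∣ orderOf d := by
    intro d
    constructor
    · rintro ⟨c, hc, rfl⟩
      exact hmap c ((hreg c).2 hc)
    · intro hd
      obtain ⟨c, hc, rfl⟩ := hlift d hd
      exact ⟨c, (hreg c).1 hc, rfl⟩
  have hKn : K.Normal := ⟨fun n hn g => by
    rw [hK] at hn ⊢
    have : orderOf (g * n * g⁻¹) = orderOf n := by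
      have := (MulAut.conj g).orderOf_eq n
      simpa using this
    rwa [this]⟩
  have hKc : (Nat.card K).Coprime 3 := by
    rw [Nat.coprime_comm, Nat.Prime.coprime_iff_not_dvd Nat.prime_three]
    intro h3
    obtain ⟨x, hx⟩ := exists_prime_orderOf_dvd_card' (G := K) 3 h3
    have h4 := (hK (x : D)).1 x.2
    rw [Subgroup.orderOf_coe, hx] at h4
    exact h4 dvd_rfl
  apply H590.RankOne.exists_index_of_regular
  intro d hd
  have h2 : K ≤ pPrimeCore 3 D := le_sSup ⟨hKn, hKc⟩
  exact h2 ((hK d).2 hd)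

end Cfsg.Agent.H650.E27
end

-- part: H650/E27Central
section
/-!
# The principal 3-block of a central extension by a group of order 3, Sylow 3-subgroup of order 27

`E27Dat P z` as in `E27Group`, `H = G / ⟨z⟩`.

* `blockRank_quot` (E1): `l(B₀(H)) = l(B₀(G))`;
* `card_eq` (E2): `k(B₀(G)) = k(B₀(H)) + 2 l(B₀(G))`;

(E3), (E4): see `E27NoNine`.
-/

set_option autoImplicit false
set_option linter.unusedSectionVars false

namespace Cfsg.Agent.H650.E27

open Cfsg Subgroup
open Cfsg.Agent.H644.CentralQuot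
open Cfsg.Agent.H608.BlockRank
open scoped ComplexConjugate

section general

variable {G : Type*} [Group G] [Finite G] {p : ℕ} [Fact p.Prime] {M : Ideal AlgInt}

theorem defl_principalBlock (hM : IsPModular p M) {U : Subgroup G} [U.Normal]
    (hU : U ≤ center G) (hp : IsPGroup p U) :
    defl U (principalBlock M G) = principalBlock M (G ⧸ U) := by
  have := Fintype.ofFinite G
  ext θ
  exact sameBlock_infl_iff hM hU hp ⟨fun _ => 1, Blocks.Basic.isIrrCharacter_one⟩ θ

/-- (E1) -/
theorem blockRank_quot (hM : IsPModular p M) {U : Subgroup G} [U.Normal]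
    (hU : U ≤ center G) (hp : IsPGroup p U) :
    blockRank p (principalBlock M G) = blockRank p (principalBlock M (G ⧸ U)) := by
  have := Fintype.ofFinite G
  rw [← defl_principalBlock hM hU hp,
    blockRank_defl hM hU hp Blocks.PrincipalSection.isPBlock_principalBlock]

theorem blockRank_centralizer_of_central {c : G} (hc : c ∈ center G) :
    blockRank p (principalBlock M (centralizer ({c} : Set G))) =
      blockRank p (principalBlock M G) := by
  have h1 : centralizer ({c} : Set G) = ⊤ := by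
    rw [eq_top_iff]
    intro g _
    rw [mem_centralizer_singleton_iff]
    exact mem_center_iff.1 hc g
  exact H590.RankSum.rank_congr ((MulEquiv.subgroupCongr h1).trans Subgroup.topEquiv)

omit [Finite G] in
theorem eq_of_isConj_central {c g : G} (hc : c ∈ center G) (h : IsConj c g) : c = g := by
  obtain ⟨x, hx⟩ := isConj_iff.1 h
  rw [mem_center_iff.1 hc x, mul_inv_cancel_right] at hx
  exact hx

end general

variable {G : Type*} [Group G] [Finite G] {P : Sylow 3 G} {z : G} {M : Ideal AlgInt}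

omit [Finite G] in
theorem mem_zpowers_z_iff (h : E27Dat P z) {x : G} :
    x ∈ zpowers z ↔ x = 1 ∨ x = z ∨ x = z ^ 2 := by
  constructor
  · intro hx
    obtain ⟨i, rfl⟩ := mem_zpowers_iff.1 hx
    have h3 : (0 : ℤ) ≤ i % 3 := Int.emod_nonneg _ (by norm_num)
    have h4 : i % 3 < 3 := Int.emod_lt_of_pos _ (by norm_num)
    have h5 : z ^ i = z ^ (i % 3) := by
      have : (i % 3 : ℤ) = i % (orderOf z : ℤ) := by rw [h.hz3]; rfl
      rw [this, zpow_mod_orderOf]
    rw [h5]
    have h6 : i % 3 = 0 ∨ i % 3 = 1 ∨ i % 3 = 2 := by omega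
    rcases h6 with h6 | h6 | h6 <;> rw [h6]
    · left; exact zpow_zero z
    · right; left; exact zpow_one z
    · right; right; exact_mod_cast zpow_natCast z 2
  · rintro (rfl | rfl | rfl)
    · exact one_mem _
    · exact mem_zpowers _
    · exact pow_mem (mem_zpowers _) 2

/-- (E2) -/
theorem card_eq (hM : IsPModular 3 M) (h : E27Dat P z) [(zpowers z).Normal] :
    Nat.card (principalBlock M G) = Nat.card (principalBlock M (G ⧸ zpowers z)) +
      2 * blockRank 3 (principalBlock M G) := by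
  classical
  have hzc := zpowers_le_center h
  have hord : ∀ w ∈ zpowers z, ∃ k : ℕ, orderOf w = 3 ^ k := by
    intro w hw
    obtain ⟨k, hk⟩ := (IsPGroup.iff_orderOf.1 (isPGroup_zpowers_z h)) ⟨w, hw⟩
    exact ⟨k, by rw [← hk, ← Subgroup.orderOf_coe]⟩
  have hS : ∀ w ∈ ({1, z, z ^ 2} : Finset G), w ∈ zpowers z := by
    intro w hw
    rw [mem_zpowers_z_iff h]
    simpa using hw
  obtain ⟨X, hSX, hX, hXrep⟩ := H634.Cols.exists_reps (p := 3) ({1, z, z ^ 2} : Finset G)
    (fun w hw => hord w (hS w hw))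
    (fun x hx y hy hc => eq_of_isConj_central (hzc (hS x hx)) hc)
  set X' := X.filter (fun x => x ∉ zpowers z) with hX'
  have hXS : X = ({1, z, z ^ 2} : Finset G) ∪ X' := by
    ext x
    rw [Finset.mem_union, hX', Finset.mem_filter]
    constructor
    · intro hx
      by_cases hxz : x ∈ zpowers z
      · left
        have := (mem_zpowers_z_iff h).1 hxz
        simpa using this
      · exact Or.inr ⟨hx, hxz⟩
    · rintro (hx | hx)
      · exact hSX hx
      · exact hx.1
  have hdisj : Disjoint ({1, z, z ^ 2} : Finset G) X' := by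
    rw [Finset.disjoint_left]
    intro x hx hx'
    exact (Finset.mem_filter.1 hx').2 (hS x hx)
  have hcardS : ({1, z, z ^ 2} : Finset G).card = 3 := by
    have h1 : (1 : G) ≠ z := (z_ne_one h).symm
    have h2 : (1 : G) ≠ z ^ 2 := by
      intro h2
      have := orderOf_dvd_of_pow_eq_one h2.symm
      rw [h.hz3] at this
      omega
    have h3 : z ≠ z ^ 2 := by
      intro h3
      rw [pow_two] at h3
      exact z_ne_one h (mul_eq_left.1 h3.symm)
    rw [Finset.card_eq_three]
    exact ⟨1, z, z ^ 2, h1, h2, h3, rfl⟩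
  have hG : Nat.card (principalBlock M G) =
      3 * blockRank 3 (principalBlock M G) + X'.card := by
    rw [H634.Cols.card_principal_eq hM X hX hXrep, hXS, Finset.sum_union hdisj,
      Finset.sum_congr rfl (fun x hx => blockRank_centralizer_of_central (hzc (hS x hx))),
      Finset.sum_const, hcardS, smul_eq_mul]
    congr 1
    rw [Finset.card_eq_sum_ones]
    refine Finset.sum_congr rfl fun x hx => ?_
    have hx1 := Finset.mem_filter.1 hx
    exact H590.RankOne.blockRank_eq_one hM (exists_index_centralizer h (hX x hx1.1) hx1.2)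
  set π : G → G ⧸ zpowers z := QuotientGroup.mk with hπ
  have hπ1 : ∀ x, π x = 1 ↔ x ∈ zpowers z := fun x => QuotientGroup.eq_one_iff x
  have hinj : ∀ x ∈ X', ∀ y ∈ X', π x = π y → x = y := by
    intro x hx y hy hxy
    have hx1 := Finset.mem_filter.1 hx
    have hy1 := Finset.mem_filter.1 hy
    have h1 : IsConj x y := isConj_of_mk h (hX y hy1.1) hy1.2 (by
      show IsConj (π x) (π y)
      rw [hxy])
    obtain ⟨w, -, hw⟩ := hXrep x (hX x hx1.1)
    rw [hw x ⟨hx1.1, IsConj.refl x⟩, hw y ⟨hy1.1, h1⟩]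
  have hYnot : (1 : G ⧸ zpowers z) ∉ X'.image π := by
    rw [Finset.mem_image]
    rintro ⟨x, hx, hx1⟩
    exact (Finset.mem_filter.1 hx).2 ((hπ1 x).1 hx1)
  have hH : Nat.card (principalBlock M (G ⧸ zpowers z)) =
      blockRank 3 (principalBlock M (G ⧸ zpowers z)) + X'.card := by
    rw [H634.Cols.card_principal_eq hM (insert 1 (X'.image π)) ?_ ?_, Finset.sum_insert hYnot,
      blockRank_centralizer_of_central (one_mem _), Finset.sum_image hinj]
    · congr 1
      rw [Finset.card_eq_sum_ones]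
      refine Finset.sum_congr rfl fun x hx => ?_
      have hx1 := Finset.mem_filter.1 hx
      exact H590.RankOne.blockRank_eq_one hM (exists_index_centralizer_quot h (hX x hx1.1) hx1.2)
    · intro y hy
      rw [Finset.mem_insert, Finset.mem_image] at hy
      rcases hy with rfl | ⟨x, hx, rfl⟩
      · exact ⟨0, by rw [orderOf_one, pow_zero]⟩
      · exact (mk_mem_iff_three h x).2 (hX x (Finset.mem_filter.1 hx).1)
    · intro y hy
      obtain ⟨g, rfl⟩ := QuotientGroup.mk_surjective y
      have hg := (mk_mem_iff_three h g).1 hy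
      obtain ⟨x, ⟨hxX, hgx⟩, huniq⟩ := hXrep g hg
      have hconj : ∀ {a b : G}, IsConj a b → IsConj (π a) (π b) := by
        intro a b hab
        obtain ⟨c, hc⟩ := isConj_iff.1 hab
        refine isConj_iff.2 ⟨π c, ?_⟩
        rw [← hc]; rfl
      by_cases hxz : x ∈ zpowers z
      · have hgx' : x = g := eq_of_isConj_central (hzc hxz) hgx.symm
        have hg1 : π g = 1 := (hπ1 g).2 (hgx' ▸ hxz)
        refine ⟨1, ⟨Finset.mem_insert_self _ _, ?_⟩, ?_⟩
        · show IsConj (π g) 1
          rw [hg1]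
        · rintro w ⟨-, hw⟩
          change IsConj (π g) w at hw
          rw [hg1] at hw
          exact (isConj_one_right.1 hw)
      · refine ⟨π x, ⟨Finset.mem_insert_of_mem (Finset.mem_image_of_mem _
          (Finset.mem_filter.2 ⟨hxX, hxz⟩)), hconj hgx⟩, ?_⟩
        rintro w ⟨hw, hgw⟩
        change IsConj (π g) w at hgw
        rw [Finset.mem_insert, Finset.mem_image] at hw
        rcases hw with rfl | ⟨x', hx', rfl⟩
        · exfalso
          have h1 : π g = 1 := isConj_one_left.1 hgw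
          have h2 : g ∈ zpowers z := (hπ1 g).1 h1
          have h3 := eq_of_isConj_central (hzc h2) hgx
          exact hxz (h3 ▸ h2)
        · have hx1 := Finset.mem_filter.1 hx'
          have h1 : IsConj g x' := isConj_of_mk h (hX x' hx1.1) hx1.2 hgw
          rw [huniq x' ⟨hx1.1, h1⟩]
  rw [hG, hH, ← blockRank_quot hM hzc (isPGroup_zpowers_z h)]
  ring

end Cfsg.Agent.H650.E27
end
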